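import Groth.Prelude.Def_DerCA
import Mathlib.RingTheory.Artinian.Module
import Mathlib.Algebra.Category.ModuleCat.Basic

/-! # Inverse systems of Artinian modules with Artinian limit are essentially constant -/

set_option autoImplicit false
universe u

open CategoryTheory Opposite

namespace GrothLib.EssConst

variable {A : Type u} [CommRing A]

theorem isEssConstant_of_artinian (X : ℕᵒᵖ ⥤ ModuleCat.{u} A) (H : ModuleCat.{u} A) [IsArtinian A H]
    (hX : ∀ n, IsArtinian A (X.obj (op n))) (c : (Functor.const ℕᵒᵖ).obj H ⟶ X)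
    (hinj : ∀ x : H, (∀ n : ℕᵒᵖ, (c.app n) x = 0) → x = 0)
    (hsurj : ∀ y : (∀ n : ℕ, X.obj (op n)), (∀ (n m : ℕ) (h : n ≤ m), (X.map (homOfLE h).op) (y m) = y n) →
      ∃ x : H, ∀ n : ℕ, (c.app (op n)) x = y n) :
    DerCA.IsEssConstant X H c := by
  classical
  let t : ∀ {n m : ℕ}, n ≤ m → (X.obj (op m) →ₗ[A] X.obj (op n)) := fun h => (X.map (homOfLE h).op).hom
  let γ : ∀ n : ℕ, (H →ₗ[A] X.obj (op n)) := fun n => (c.app (op n)).hom
  have htt : ∀ {a b d : ℕ} (h₁ : a ≤ b) (h₂ : b ≤ d) (z : X.obj (op d)), t h₁ (t h₂ z) = t (h₁.trans h₂) z :=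
    fun h₁ h₂ z => (ConcreteCategory.congr_hom (X.map_comp (homOfLE h₂).op (homOfLE h₁).op) z).symm
  have hγ : ∀ {n m : ℕ} (h : n ≤ m) (x : H), t h (γ m x) = γ n x := fun h x =>
    (ConcreteCategory.congr_hom (c.naturality (homOfLE h).op) x).symm
  -- injectivity at a finite level
  let K : ℕ →o (Submodule A H)ᵒᵈ :=
    { toFun := fun n => OrderDual.toDual (LinearMap.ker (γ n))
      monotone' := fun n m h x (hx : γ m x = 0) => by
        show γ n x = 0
        rw [← hγ h x, hx, map_zero] }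
  obtain ⟨n₀, hn₀⟩ := IsArtinian.monotone_stabilizes K
  have hinj0 : Function.Injective (γ n₀) := by
    rw [injective_iff_map_eq_zero]
    refine fun x hx => hinj x fun n => ?_
    have e : LinearMap.ker (γ n₀) = LinearMap.ker (γ (max n.unop n₀)) := hn₀ _ (le_max_right _ _)
    have h2 : γ (max n.unop n₀) x = 0 := LinearMap.mem_ker.1 (e ▸ LinearMap.mem_ker.2 hx)
    show γ n.unop x = 0
    rw [← hγ (le_max_left n.unop n₀) x, h2, map_zero]
  -- stabilisation of images
  have hst : ∀ n, ∃ m, ∃ h : n ≤ m, ∀ k (hk : m ≤ k), LinearMap.range (t h) ≤ LinearMap.range (t (h.trans hk)) := by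
    intro n
    haveI := hX n
    let R' : ℕ →o (Submodule A (X.obj (op n)))ᵒᵈ :=
      { toFun := fun j => OrderDual.toDual (LinearMap.range (t (Nat.le_add_right n j)))
        monotone' := fun i j h => by
          rintro _ ⟨z, rfl⟩
          exact ⟨t (Nat.add_le_add_left h n) z, htt _ _ z⟩ }
    obtain ⟨j, hj⟩ := IsArtinian.monotone_stabilizes R'
    refine ⟨n + j, Nat.le_add_right n j, fun k hk => ?_⟩
    obtain ⟨i, rfl⟩ := Nat.exists_eq_add_of_le hk
    intro z hz
    have e := hj (j + i) (Nat.le_add_right j i)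
    have e' : LinearMap.range (t (Nat.le_add_right n j)) = LinearMap.range (t (Nat.le_add_right n (j + i))) := e
    obtain ⟨w, rfl⟩ : z ∈ LinearMap.range (t (Nat.le_add_right n (j + i))) := e' ▸ hz
    exact ⟨t (show n + j + i ≤ n + (j + i) by omega) w, htt _ _ w⟩
  choose μ hμ hμ' using hst
  let E : ∀ n, Submodule A (X.obj (op n)) := fun n => LinearMap.range (t (hμ n))
  have hstep : ∀ n, ∀ e ∈ E n, ∃ e' ∈ E (n + 1), t (Nat.le_succ n) e' = e := by
    intro n e he
    obtain ⟨z, rfl⟩ := hμ' n (max (μ n) (μ (n + 1))) (le_max_left _ _) he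
    refine ⟨t ((hμ (n + 1)).trans (le_max_right (μ n) (μ (n + 1)))) z,
      ⟨t (le_max_right _ _) z, htt _ _ z⟩, htt _ _ z⟩
  choose next hnext hnext' using hstep
  have hsurjE : ∀ n, ∀ e ∈ E n, ∃ x, γ n x = e := by
    intro n e he
    let seqE : ∀ j : ℕ, E (n + j) := fun j => Nat.rec (motive := fun j => E (n + j)) ⟨e, he⟩
      (fun i p => ⟨next (n + i) p.1 p.2, hnext (n + i) p.1 p.2⟩) j
    have hs : ∀ j i, ∀ h : n + j ≤ n + (j + i), t h (seqE (j + i)).1 = (seqE j).1 := by
      intro j i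
      induction i with
      | zero =>
        intro h
        exact ConcreteCategory.congr_hom ((congrArg X.map (Subsingleton.elim (homOfLE h).op (𝟙 (op (n + j))))).trans
          (X.map_id (op (n + j)))) (seqE j).1
      | succ i ih =>
        intro h
        have h3 : t (Nat.le_succ (n + (j + i))) (seqE (j + i + 1)).1 = (seqE (j + i)).1 := hnext' _ _ _
        have h4 := htt (show n + j ≤ n + (j + i) by omega) (Nat.le_succ (n + (j + i))) (seqE (j + i + 1)).1
        rw [h3, ih] at h4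
        exact h4.symm
    obtain ⟨x, hx⟩ := hsurj (fun m => t (show m ≤ n + m from Nat.le_add_left m n) (seqE m).1) (fun a b h => by
      obtain ⟨i, rfl⟩ := Nat.exists_eq_add_of_le h
      show t h (t _ _) = t _ _
      rw [htt, ← hs a i (by omega), htt])
    refine ⟨x, ?_⟩
    have h5 : γ n x = t (Nat.le_add_left n n) (seqE n).1 := hx n
    have h6 := hs 0 n (by omega)
    rw [h5]
    have h7 : ∀ (j : ℕ), j = 0 + n → ∀ h : n ≤ n + j, t h (seqE j).1 = e := by
      rintro j rfl h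
      exact h6
    exact h7 n (Nat.zero_add n).symm _
  refine ⟨μ n₀, ?_⟩
  let f : H ≃ₗ[A] LinearMap.range (γ n₀) := LinearEquiv.ofInjective (γ n₀) hinj0
  have hmem : ∀ z, t (hμ n₀) z ∈ LinearMap.range (γ n₀) := fun z => hsurjE n₀ _ ⟨z, rfl⟩
  let s : X.obj (op (μ n₀)) →ₗ[A] H := f.symm.toLinearMap ∘ₗ (t (hμ n₀)).codRestrict _ hmem
  have hs' : ∀ z, γ n₀ (s z) = t (hμ n₀) z := fun z =>
    congrArg Subtype.val (f.apply_symm_apply ⟨_, hmem z⟩)
  refine ⟨ModuleCat.ofHom s, ModuleCat.hom_ext (LinearMap.ext fun x => hinj0 ((hs' _).trans (hγ _ x))), fun j => ?_⟩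
  let q := max j n₀
  refine ⟨max (μ n₀) (max j (μ q)), le_max_left _ _, (le_max_left _ _).trans (le_max_right _ _),
    ModuleCat.hom_ext (LinearMap.ext fun z => ?_)⟩
  have hk : μ q ≤ max (μ n₀) (max j (μ q)) := (le_max_right _ _).trans (le_max_right _ _)
  obtain ⟨h, hh⟩ := hsurjE q _ ⟨t hk z, htt (hμ q) hk z⟩
  show t _ z = γ j (s (t _ z))
  have h1 : s (t (le_max_left (μ n₀) (max j (μ q))) z) = h := hinj0 (by
    rw [hs', htt, ← hγ (le_max_right j n₀) h, hh, htt])
  rw [h1, ← hγ (le_max_left j n₀) h, hh, htt]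

end GrothLib.EssConst
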